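import Mathlib

/-!
# A counting lemma for the Hilbert different formula
-/

set_option autoImplicit false

namespace Groth.Agent.H27.Hilb

open scoped Classical in
theorem count_formula {G : Type*} [Fintype G] (one : G) (m : G → ℕ) (g : ℕ → G → Prop)
    (hone : ∀ i, g i one)
    (hg : ∀ i, 1 ≤ i → ∀ σ, σ ≠ one → (g i σ ↔ i ≤ m σ)) :
    (Function.support fun i : ℕ => (Nat.card {σ : G // g i σ} : ℤ) - 1).Finite ∧
    ∑ σ ∈ Finset.univ.erase one, (m σ : ℤ) =
      ∑ᶠ i : ℕ, if 1 ≤ i then (Nat.card {σ : G // g i σ} : ℤ) - 1 else 0 := by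
  set N := ∑ σ ∈ Finset.univ.erase one, m σ with hN
  have hmN : ∀ σ, σ ≠ one → m σ ≤ N := fun σ hσ =>
    Finset.single_le_sum (f := m) (fun _ _ => Nat.zero_le _)
      (Finset.mem_erase.2 ⟨hσ, Finset.mem_univ _⟩)
  have hcard : ∀ i, 1 ≤ i → (Nat.card {σ : G // g i σ} : ℤ) - 1 =
      ∑ σ ∈ Finset.univ.erase one, if i ≤ m σ then (1 : ℤ) else 0 := by
    intro i hi
    rw [Nat.card_eq_fintype_card, Fintype.card_subtype]
    have h1 : (Finset.univ.filter (fun σ => g i σ)) =
        insert one ((Finset.univ.erase one).filter (fun σ => i ≤ m σ)) := by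
      ext σ
      simp only [Finset.mem_filter, Finset.mem_univ, true_and, Finset.mem_insert,
        Finset.mem_erase, ne_eq, and_true]
      by_cases h : σ = one
      · rw [h]; simp [hone i]
      · simp [h, hg i hi σ h]
    rw [h1, Finset.card_insert_of_notMem (by simp), Finset.sum_boole]
    push_cast; ring
  have hzero : ∀ i, N + 1 ≤ i → (Nat.card {σ : G // g i σ} : ℤ) - 1 = 0 := by
    intro i hi
    rw [hcard i (by omega)]
    apply Finset.sum_eq_zero
    intro σ hσ
    rw [if_neg]
    have := hmN σ (Finset.ne_of_mem_erase hσ)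
    omega
  have hsupp : Function.support (fun i : ℕ => (Nat.card {σ : G // g i σ} : ℤ) - 1) ⊆
      ↑(Finset.range (N + 1)) := by
    intro i hi
    rw [Function.mem_support] at hi
    rw [Finset.coe_range, Set.mem_Iio]
    by_contra h
    exact hi (hzero i (by omega))
  refine ⟨(Finset.finite_toSet _).subset hsupp, ?_⟩
  rw [finsum_eq_sum_of_support_subset (s := Finset.range (N + 1))]
  · have hterm : ∀ i ∈ Finset.range (N + 1),
        (if 1 ≤ i then (Nat.card {σ : G // g i σ} : ℤ) - 1 else 0) =
          ∑ σ ∈ Finset.univ.erase one, if (1 ≤ i ∧ i ≤ m σ) then (1 : ℤ) else 0 := by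
      intro i _
      by_cases hi : 1 ≤ i
      · rw [if_pos hi, hcard i hi]
        apply Finset.sum_congr rfl
        intro σ _
        simp [hi]
      · rw [if_neg hi]
        symm
        apply Finset.sum_eq_zero
        intro σ _
        simp [hi]
    rw [Finset.sum_congr rfl hterm, Finset.sum_comm]
    apply Finset.sum_congr rfl
    intro σ hσ
    rw [Finset.sum_boole]
    have hf : (Finset.range (N + 1)).filter (fun i => 1 ≤ i ∧ i ≤ m σ) = Finset.Icc 1 (m σ) := by
      ext i
      have := hmN σ (Finset.ne_of_mem_erase hσ)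
      simp only [Finset.mem_filter, Finset.mem_range, Finset.mem_Icc]
      omega
    rw [hf, Nat.card_Icc]
    simp
  · intro i hi
    rw [Function.mem_support] at hi
    rw [Finset.coe_range, Set.mem_Iio]
    by_contra h
    apply hi
    rw [if_pos (by omega), hzero i (by omega)]

end Groth.Agent.H27.Hilb
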