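import Mathlib

/-!
# Galois conjugates and the derivative of the minimal polynomial
-/

set_option autoImplicit false

namespace Groth.Agent.H27.Hilb

open Polynomial

variable {K K' : Type*} [Field K] [Field K'] [Algebra K K'] [FiniteDimensional K K']
  [IsGalois K K']

theorem adjoin_eq_top_of_stabilizer (y : K') (h : ∀ σ : K' ≃ₐ[K] K', σ y = y → σ = 1) :
    IntermediateField.adjoin K ({y} : Set K') = ⊤ := by
  have h1 : IntermediateField.fixingSubgroup (IntermediateField.adjoin K ({y} : Set K')) = ⊥ := by
    rw [eq_bot_iff]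
    intro σ hσ
    rw [Subgroup.mem_bot]
    apply h
    exact (IntermediateField.mem_fixingSubgroup_iff _ σ).1 hσ y
      (IntermediateField.mem_adjoin_simple_self K y)
  rw [← IsGalois.fixedField_fixingSubgroup (IntermediateField.adjoin K ({y} : Set K')), h1,
    IntermediateField.fixedField_bot]

open scoped Classical in
theorem derivative_eq_prod (y : K') (h : ∀ σ : K' ≃ₐ[K] K', σ y = y → σ = 1) :
    aeval y (derivative (minpoly K y)) =
      ∏ σ ∈ (Finset.univ.erase (1 : K' ≃ₐ[K] K')), (y - σ y) := by
  have htop := adjoin_eq_top_of_stabilizer y h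
  have hyi : IsIntegral K y := Algebra.IsIntegral.isIntegral y
  set g := (minpoly K y).map (algebraMap K K') with hg
  have hg0 : g ≠ 0 := Polynomial.map_ne_zero (minpoly.ne_zero hyi)
  have hgm : g.Monic := (minpoly.monic hyi).map _
  set f : (K' ≃ₐ[K] K') → K' := fun σ => σ y with hf
  have hfinj : Function.Injective f := by
    intro σ τ hστ
    have : (τ⁻¹ * σ) y = y := by
      show τ⁻¹ (σ y) = y
      have h1 : σ y = τ y := hστ
      rw [h1]
      exact τ.symm_apply_apply y
    have h2 := h _ this
    calc σ = τ * (τ⁻¹ * σ) := by group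
      _ = τ := by rw [h2, mul_one]
  set s : Multiset K' := (Finset.univ : Finset (K' ≃ₐ[K] K')).val.map f with hs
  have hsnd : s.Nodup := Multiset.Nodup.map hfinj Finset.univ.nodup
  have hsle : s ≤ g.roots := by
    rw [Multiset.le_iff_subset hsnd]
    intro a ha
    rw [hs, Multiset.mem_map] at ha
    obtain ⟨σ, -, rfl⟩ := ha
    rw [Polynomial.mem_roots hg0, IsRoot.def, hg, Polynomial.eval_map_algebraMap]
    show aeval (σ y) (minpoly K y) = 0
    have h3 := Polynomial.aeval_algHom_apply (σ : K' →ₐ[K] K') y (minpoly K y)
    rw [minpoly.aeval, map_zero] at h3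
    exact h3
  have hcard : Multiset.card s = g.natDegree := by
    rw [hs, Multiset.card_map, hg, Polynomial.natDegree_map]
    show Finset.card Finset.univ = _
    rw [Finset.card_univ, ← Nat.card_eq_fintype_card, IsGalois.card_aut_eq_finrank]
    exact ((Field.primitive_element_iff_minpoly_natDegree_eq K y).mp htop).symm
  have hroots : g.roots = s :=
    (Multiset.eq_of_le_of_card_le hsle (by rw [hcard]; exact Polynomial.card_roots' g)).symm
  have hsplit : g.Splits := by
    rw [Polynomial.splits_iff_card_roots, hroots, hcard]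
  have hymem : y ∈ g.roots := by
    rw [hroots, hs, Multiset.mem_map]
    exact ⟨1, Finset.mem_univ _, rfl⟩
  have hder := hsplit.eval_root_derivative hgm hymem
  rw [hg, Polynomial.derivative_map, Polynomial.eval_map_algebraMap, ← hg, hroots] at hder
  rw [hder, Finset.prod_eq_multiset_prod, Finset.erase_val]
  have h1 : s.erase y = ((Finset.univ : Finset (K' ≃ₐ[K] K')).val.erase 1).map f := by
    rw [Multiset.map_erase f hfinj]
    rfl
  rw [h1, Multiset.map_map]
  rfl

end Groth.Agent.H27.Hilb
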