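import Mathlib
import Groth.Agent.H27.TrRes.Diff8
import Groth.Agent.H27.Tate.ExpFD

/-!
# A local generator at a separable place
-/

set_option autoImplicit false

namespace Groth.Agent.H27.Hilb

open FunFld WithZero HahnSeries Groth.Agent.H55 Groth.Agent.H27.Tate Groth.Agent.H27.ExpFD
  Polynomial

universe u v w

variable {k : Type u} {K' : Type v} {F' : Type w} [Field k] [Field K'] [Field F'] [Algebra k K']
  [Algebra k F']

/-- The constant term as a `k`-algebra homomorphism on `O_Q`. -/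
noncomputable def cAlg (Q : Place k K') (ψ : K' →ₐ[k] LaurentSeries F')
    (hψ : LocRes.IsExpansionAt Q.1 ψ) : Q.O →ₐ[k] F' :=
  { cHom Q ψ hψ with
    commutes' := fun c => by
      show (ψ ((algebraMap k Q.O c : Q.O) : K')).coeff 0 = algebraMap k F' c
      have h2 : ((algebraMap k Q.O c : Q.O) : K') = algebraMap k K' c := rfl
      rw [h2, LocRes.map_algebraMap, HahnSeries.C_apply, coeff_single_same] }

theorem cAlg_apply (Q : Place k K') (ψ : K' →ₐ[k] LaurentSeries F')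
    (hψ : LocRes.IsExpansionAt Q.1 ψ) (f : Q.O) : cAlg Q ψ hψ f = (ψ (f : K')).coeff 0 := rfl

theorem coe_aeval (Q : Place k K') (yO : Q.O) (q : k[X]) :
    ((aeval yO q : Q.O) : K') = aeval (yO : K') q := by
  let valA : Q.O →ₐ[k] K' := { Q.O.subtype with commutes' := fun c => rfl }
  exact (Polynomial.aeval_algHom_apply valA yO q).symm

theorem coeff_aeval (Q : Place k K') (ψ : K' →ₐ[k] LaurentSeries F')
    (hψ : LocRes.IsExpansionAt Q.1 ψ) (y : K') (hy : Q.1 y ≤ 1) (q : k[X]) :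
    (ψ (aeval y q)).coeff 0 = aeval ((ψ y).coeff 0) q := by
  have h1 := Polynomial.aeval_algHom_apply (cAlg Q ψ hψ) (⟨y, hy⟩ : Q.O) q
  rw [cAlg_apply, cAlg_apply, coe_aeval] at h1
  exact h1.symm

theorem val_lt_one_of_coeff_zero {Q : Place k K'} {ψ : K' →ₐ[k] LaurentSeries F'}
    (hψ : LocRes.IsExpansionAt Q.1 ψ) {c : K'} (hc : Q.1 c ≤ 1) (h0 : (ψ c).coeff 0 = 0) :
    Q.1 c < 1 := by
  have hA := mem_Alev_of_int hψ hc
  have : Valued.v (ψ c) ≤ exp (-(1 : ℤ)) := by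
    rw [LaurentSeries.valuation_le_iff_coeff_lt_eq_zero]
    intro n hn
    rcases lt_or_eq_of_le (show n ≤ 0 by omega) with h | h
    · exact hA n h
    · rw [h]; exact h0
  rw [hψ.1] at this
  exact lt_of_le_of_lt this (by rw [← exp_zero, exp_lt_exp]; omega)

theorem val_eq_one_of_coeff_ne_zero {Q : Place k K'} {ψ : K' →ₐ[k] LaurentSeries F'}
    (hψ : LocRes.IsExpansionAt Q.1 ψ) {c : K'} (hc : Q.1 c ≤ 1) (h0 : (ψ c).coeff 0 ≠ 0) :
    Q.1 c = 1 := by
  refine le_antisymm hc ?_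
  by_contra hlt
  rw [not_le] at hlt
  exact h0 (coeff_zero_of_lt hψ hlt)

/-- A local generator: an element `y` (unit at `Q`, zero at the other places of `Qs`) such that
`k[y]` contains a local parameter and representatives of all residue classes at `Q`. -/
theorem exists_generator [FiniteDimensional k F'] [Algebra.IsSeparable k F']
    (Qs : Finset (Place k K')) (Q : Place k K') (hQ : Q ∈ Qs)
    (ψ : K' →ₐ[k] LaurentSeries F') (hψ : LocRes.IsExpansionAt Q.1 ψ) :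
    ∃ (y : K') (μ : k[X]), Q.1 y = 1 ∧ (∀ Q' ∈ Qs, Q' ≠ Q → Q'.1 y < 1) ∧
      Q.1 (aeval y μ) = exp (-1 : ℤ) ∧
      ∀ c : K', Q.1 c ≤ 1 → ∃ q : k[X], Q.1 (c - aeval y q) < 1 := by
  classical
  -- a nonzero primitive element of the residue field
  obtain ⟨θ, hθ0, hθ⟩ : ∃ θ : F', θ ≠ 0 ∧ IntermediateField.adjoin k ({θ} : Set F') = ⊤ := by
    obtain ⟨θ₀, hθ₀⟩ := Field.exists_primitive_element k F'
    by_cases h0 : θ₀ = 0
    · refine ⟨1, one_ne_zero, ?_⟩
      rw [← hθ₀, h0, IntermediateField.adjoin_zero, IntermediateField.adjoin_one]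
    · exact ⟨θ₀, h0, hθ₀⟩
  have hadj : Algebra.adjoin k ({θ} : Set F') = ⊤ := by
    have := IntermediateField.adjoin_simple_toSubalgebra_of_isAlgebraic
      (Algebra.IsAlgebraic.isAlgebraic (R := k) θ)
    rw [← this, hθ, IntermediateField.top_toSubalgebra]
  obtain ⟨ζ, hζ1, hζθ⟩ := hψ.2.1 θ
  set μ := minpoly k θ with hμ
  have hμθ : aeval θ μ = 0 := minpoly.aeval k θ
  have hμ'θ : aeval θ (derivative μ) ≠ 0 :=
    (Algebra.IsSeparable.isSeparable k θ).aeval_derivative_ne_zero hμθ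
  obtain ⟨s, hs⟩ := Q.2.2 (exp (-1 : ℤ))
  have hs1 : Q.1 s ≤ 1 := by rw [hs, ← exp_zero, exp_le_exp]; omega
  -- first candidate
  have hy₀ : ∃ y₀ : K', Q.1 y₀ ≤ 1 ∧ (ψ y₀).coeff 0 = θ ∧ Q.1 (aeval y₀ μ) = exp (-1 : ℤ) := by
    by_cases hA : Q.1 (aeval ζ μ) = exp (-1 : ℤ)
    · exact ⟨ζ, hζ1, hζθ, hA⟩
    · have h1 : Q.1 (aeval ζ μ) < 1 := by
        refine val_lt_one_of_coeff_zero hψ (val_aeval_le_one Q ζ hζ1 μ) ?_
        rw [coeff_aeval Q ψ hψ ζ hζ1, hζθ, hμθ]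
      have h2 : Q.1 (aeval ζ μ) ≤ exp (-2 : ℤ) := by
        have h3 := le_exp_neg_one_of_lt_one h1
        rcases lt_or_eq_of_le h3 with h | h
        · have := (zm0_lt_exp_iff _ _).1 h
          exact this.trans (by rw [exp_le_exp]; omega)
        · exact absurd h hA
      have hu : Q.1 (aeval ζ (derivative μ)) = 1 := by
        refine val_eq_one_of_coeff_ne_zero hψ (val_aeval_le_one Q ζ hζ1 _) ?_
        rw [coeff_aeval Q ψ hψ ζ hζ1, hζθ]
        exact hμ'θ
      set ζO : Q.O := ⟨ζ, hζ1⟩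
      set sO : Q.O := ⟨s, hs1⟩
      obtain ⟨κ, hκ⟩ := (μ.map (algebraMap k Q.O)).binomExpansion ζO sO
      rw [Polynomial.eval_map_algebraMap, Polynomial.eval_map_algebraMap, Polynomial.derivative_map,
        Polynomial.eval_map_algebraMap] at hκ
      have hκ' : aeval ((ζO : K') + (sO : K')) μ = aeval (ζO : K') μ +
          aeval (ζO : K') (derivative μ) * (sO : K') + (κ : K') * (sO : K') ^ 2 := by
        rw [← coe_aeval Q ζO μ, ← coe_aeval Q ζO (derivative μ)]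
        have := coe_aeval Q (ζO + sO) μ
        rw [hκ] at this
        exact this.symm
      have hκ1 : Q.1 (κ : K') ≤ 1 := (Valuation.mem_valuationSubring_iff Q.1 _).1 κ.2
      refine ⟨ζ + s, (Q.1.map_add _ _).trans (max_le hζ1 hs1), ?_, ?_⟩
      · rw [map_add, HahnSeries.coeff_add, hζθ, coeff_zero_of_lt hψ (lt_of_le_of_lt (le_of_eq hs)
          (by rw [← exp_zero, exp_lt_exp]; omega)), add_zero]
      · show Q.1 (aeval ((ζO : K') + (sO : K')) μ) = _
        rw [hκ']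
        have e1 : Q.1 (aeval (ζO : K') (derivative μ) * (sO : K')) = exp (-1 : ℤ) := by
          rw [map_mul]
          show Q.1 (aeval ζ (derivative μ)) * Q.1 s = _
          rw [hu, one_mul, hs]
        have e2 : Q.1 ((κ : K') * (sO : K') ^ 2) ≤ exp (-2 : ℤ) := by
          rw [map_mul, map_pow]
          show Q.1 (κ : K') * Q.1 s ^ 2 ≤ _
          rw [hs, ← exp_nsmul]
          calc Q.1 (κ : K') * exp ((2 : ℕ) • (-1 : ℤ)) ≤ 1 * exp ((2 : ℕ) • (-1 : ℤ)) :=
                mul_le_mul' hκ1 le_rfl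
            _ = exp (-2 : ℤ) := by rw [one_mul]; congr 1
        have hlt : exp (-2 : ℤ) < exp (-1 : ℤ) := by rw [exp_lt_exp]; omega
        rw [add_assoc, add_comm, Valuation.map_add_eq_of_lt_left]
        · rw [Valuation.map_add_eq_of_lt_left, e1]
          rw [e1]; exact lt_of_le_of_lt e2 hlt
        · rw [Valuation.map_add_eq_of_lt_left, e1]
          · exact lt_of_le_of_lt h2 hlt
          · rw [e1]; exact lt_of_le_of_lt e2 hlt
  obtain ⟨y₀, hy₀1, hy₀θ, hy₀μ⟩ := hy₀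
  obtain ⟨y, hyQ, hyo⟩ := exists_approx Qs Q hQ y₀ (-2) (fun _ => exp (1 : ℤ))
    (fun _ => exp_ne_zero)
  have hlt2 : exp (-2 : ℤ) < (1 : WithZero (Multiplicative ℤ)) := by
    rw [← exp_zero, exp_lt_exp]; omega
  have hy1 : Q.1 y ≤ 1 := by
    have : y = (y - y₀) + y₀ := by ring
    rw [this]
    exact (Q.1.map_add _ _).trans (max_le (hyQ.trans hlt2.le) hy₀1)
  have hyθ : (ψ y).coeff 0 = θ := by
    have : y = (y - y₀) + y₀ := by ring
    rw [this, map_add, HahnSeries.coeff_add, coeff_zero_of_lt hψ (lt_of_le_of_lt hyQ hlt2), zero_add, hy₀θ]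
  have hyv : Q.1 y = 1 := val_eq_one_of_coeff_ne_zero hψ hy1 (by rw [hyθ]; exact hθ0)
  refine ⟨y, μ, hyv, fun Q' hQ' hne => ?_, ?_, fun c hc => ?_⟩
  · refine lt_of_le_of_lt (hyo Q' hQ' hne) ?_
    rw [← exp_neg, ← exp_zero, exp_lt_exp]; omega
  · set yO : Q.O := ⟨y, hy1⟩
    set y₀O : Q.O := ⟨y₀, hy₀1⟩
    obtain ⟨z, hz⟩ := (μ.map (algebraMap k Q.O)).evalSubFactor yO y₀O
    rw [Polynomial.eval_map_algebraMap, Polynomial.eval_map_algebraMap] at hz
    have hz' : aeval (yO : K') μ - aeval (y₀O : K') μ = (z : K') * ((yO : K') - (y₀O : K')) := by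
      rw [← coe_aeval Q yO μ, ← coe_aeval Q y₀O μ]
      exact congrArg (fun z : Q.O => (z : K')) hz
    have hz1 : Q.1 (z : K') ≤ 1 := (Valuation.mem_valuationSubring_iff Q.1 _).1 z.2
    have hdiff : Q.1 (aeval y μ - aeval y₀ μ) ≤ exp (-2 : ℤ) := by
      show Q.1 (aeval (yO : K') μ - aeval (y₀O : K') μ) ≤ _
      rw [hz', map_mul]
      calc Q.1 (z : K') * Q.1 ((yO : K') - (y₀O : K')) ≤ 1 * exp (-2 : ℤ) :=
            mul_le_mul' hz1 hyQ
        _ = exp (-2 : ℤ) := one_mul _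
    have : aeval y μ = (aeval y μ - aeval y₀ μ) + aeval y₀ μ := by ring
    rw [this, Valuation.map_add_eq_of_lt_right, hy₀μ]
    rw [hy₀μ]
    exact lt_of_le_of_lt hdiff (by rw [exp_lt_exp]; omega)
  · have hmem : (ψ c).coeff 0 ∈ Algebra.adjoin k ({θ} : Set F') := by rw [hadj]; trivial
    rw [Algebra.adjoin_singleton_eq_range_aeval] at hmem
    obtain ⟨q, hq⟩ := hmem
    refine ⟨q, val_lt_one_of_coeff_zero hψ ?_ ?_⟩
    · exact (Q.1.map_sub _ _).trans (max_le hc (val_aeval_le_one Q y hy1 q))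
    · rw [map_sub, HahnSeries.coeff_sub, coeff_aeval Q ψ hψ y hy1, hyθ]
      have : (aeval θ) q = (ψ c).coeff 0 := hq
      rw [this, sub_self]

end Groth.Agent.H27.Hilb
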