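import Mathlib
import Groth.Agent.H27.Hilb.Gen
import Groth.Agent.H27.Hilb.Gal
import Groth.Agent.H27.Hilb.Count
import Groth.Agent.H27.Adj.Approx

/-!
# Hilbert's different formula
-/

set_option autoImplicit false

namespace Groth.Agent.H27.Hilb

open LinearMap HahnSeries WithZero FunFld Groth.Agent.H55 Groth.Agent.H27.Tate Groth.Agent.H27.Adj
  Polynomial

universe u v w

variable {k : Type u} {K K' : Type v} [Field k] [Field K] [Field K'] [Algebra k K] [Algebra K K']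
  [Algebra k K'] [IsScalarTower k K K']

/-- An automorphism moving the generator by an element of the maximal ideal fixes the place. -/
theorem comapGal_eq_of_gen (Qs : Finset (Place k K')) (Q : Place k K') (y : K') (hyQ : Q.1 y = 1)
    (hy' : ∀ Q' ∈ Qs, Q' ≠ Q → Q'.1 y < 1) (σ : K' ≃ₐ[K] K') (hσQs : comapGal Q σ ∈ Qs)
    (hσ : Q.1 (σ y - y) < 1) : comapGal Q σ = Q := by
  by_contra hne
  have h1 : Q.1 (σ y) < 1 := hy' _ hσQs hne
  have h2 : Q.1 y < 1 := by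
    have e : y = σ y - (σ y - y) := by ring
    rw [e]
    exact lt_of_le_of_lt (Q.1.map_sub _ _) (max_lt h1 hσ)
  rw [hyQ] at h2
  exact lt_irrefl _ h2

section Adjoin

variable (P : Place k K) [Algebra P.O K'] [IsScalarTower P.O K K']

theorem val_sub_le_of_mem_adjoin (Q : Place k K') (σ : K' ≃ₐ[K] K')
    (hσQ : ∀ z, Q.1 (σ z) = Q.1 z) (y : K') (i : ℤ)
    (hint : ∀ p ∈ Algebra.adjoin P.O ({y} : Set K'), Q.1 p ≤ 1)
    (hσy : Q.1 (σ y - y) ≤ exp i) :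
    ∀ p ∈ Algebra.adjoin P.O ({y} : Set K'), Q.1 (σ p - p) ≤ exp i := by
  intro p hp
  induction hp using Algebra.adjoin_induction with
  | mem x hx => rw [Set.mem_singleton_iff] at hx; rw [hx]; exact hσy
  | algebraMap r =>
    have h1 : algebraMap P.O K' r = algebraMap K K' (r : K) :=
      IsScalarTower.algebraMap_apply P.O K K' r
    rw [h1, σ.commutes, sub_self, map_zero]; exact zero_le'
  | add a b ha hb iha ihb =>
    have e : σ (a + b) - (a + b) = (σ a - a) + (σ b - b) := by rw [map_add]; ring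
    rw [e]; exact Q.1.map_add_le iha ihb
  | mul a b ha hb iha ihb =>
    have e : σ (a * b) - a * b = σ a * (σ b - b) + (σ a - a) * b := by rw [map_mul]; ring
    rw [e]
    refine Q.1.map_add_le ?_ ?_
    · rw [map_mul]
      calc Q.1 (σ a) * Q.1 (σ b - b) ≤ 1 * exp i :=
            mul_le_mul' (by rw [hσQ]; exact hint a ha) ihb
        _ = exp i := one_mul _
    · rw [map_mul]
      calc Q.1 (σ a - a) * Q.1 b ≤ exp i * 1 := mul_le_mul' iha (hint b hb)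
        _ = exp i := mul_one _

theorem mem_ramGroup_iff (Qs : Finset (Place k K')) (hQs : ∀ Q', Q' ∈ Qs ↔ IsOver Q' P)
    (Q : Place k K') (e : ℕ) (he : IsOverWith Q P e) (y : K') (hyQ : Q.1 y = 1)
    (hy' : ∀ Q' ∈ Qs, Q' ≠ Q → Q'.1 y < 1)
    (hint : ∀ p ∈ Algebra.adjoin P.O ({y} : Set K'), Q.1 p ≤ 1)
    (hlift : ∀ c : K', Q.1 c ≤ 1 →
      ∃ u ∈ (Algebra.adjoin P.O ({y} : Set K')).toSubring, Q.1 (c - u) < 1)
    (π : K') (hπB : π ∈ (Algebra.adjoin P.O ({y} : Set K')).toSubring) (hπ : Q.1 π = exp (-1))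
    (σ : K' ≃ₐ[K] K') (i : ℕ) (hi : 1 ≤ i) :
    (∀ z : K', Q.1 z ≤ 1 → Q.1 (σ z - z) ≤ exp (-(i : ℤ))) ↔
      Q.1 (σ y - y) ≤ exp (-(i : ℤ)) := by
  constructor
  · intro h; exact h y hyQ.le
  · intro h z hz
    have hlt : Q.1 (σ y - y) < 1 :=
      lt_of_le_of_lt h (by rw [← exp_zero, exp_lt_exp]; omega)
    have hσQs : comapGal Q σ ∈ Qs := (hQs _).2 ⟨e, comapGal_isOverWith he σ⟩
    have hst := comapGal_eq_of_gen Qs Q y hyQ hy' σ hσQs hlt
    have hσQ : ∀ z, Q.1 (σ z) = Q.1 z := fun z =>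
      congrArg (fun R : Place k K' => R.1 z) hst
    obtain ⟨p, hp, hpv⟩ := exists_subring_approx Q _ hlift π hπB hπ i z hz
    have hB := val_sub_le_of_mem_adjoin P Q σ hσQ y (-(i : ℤ)) hint h p hp
    have e1 : σ z - z = (σ (z - p) - (z - p)) + (σ p - p) := by rw [map_sub]; ring
    rw [e1]
    refine Q.1.map_add_le (le_trans (Q.1.map_sub _ _) (max_le ?_ hpv)) hB
    rw [hσQ]; exact hpv

theorem eq_one_of_fix_gen (Qs : Finset (Place k K')) (hQs : ∀ Q', Q' ∈ Qs ↔ IsOver Q' P)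
    (Q : Place k K') (e : ℕ) (he : IsOverWith Q P e) (y : K') (hyQ : Q.1 y = 1)
    (hy' : ∀ Q' ∈ Qs, Q' ≠ Q → Q'.1 y < 1)
    (hint : ∀ p ∈ Algebra.adjoin P.O ({y} : Set K'), Q.1 p ≤ 1)
    (hlift : ∀ c : K', Q.1 c ≤ 1 →
      ∃ u ∈ (Algebra.adjoin P.O ({y} : Set K')).toSubring, Q.1 (c - u) < 1)
    (π : K') (hπB : π ∈ (Algebra.adjoin P.O ({y} : Set K')).toSubring) (hπ : Q.1 π = exp (-1))
    (σ : K' ≃ₐ[K] K') (hσ : σ y = y) : σ = 1 := by
  have h1 : ∀ z, Q.1 z ≤ 1 → σ z = z := by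
    intro z hz
    have h0 : Q.1 (σ z - z) = 0 := by
      apply eq_zero_of_forall_le_exp
      intro S
      have h2 := (mem_ramGroup_iff P Qs hQs Q e he y hyQ hy' hint hlift π hπB hπ σ (S + 1)
        (by omega)).2 (by rw [hσ, sub_self, map_zero]; exact zero_le') z hz
      exact le_trans h2 (by rw [exp_le_exp]; push_cast; omega)
    rwa [map_eq_zero, sub_eq_zero] at h0
  apply AlgEquiv.ext
  intro z
  rw [AlgEquiv.one_apply]
  rcases le_total (Q.1 z) 1 with hz | hz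
  · exact h1 z hz
  · have hinv : Q.1 z⁻¹ ≤ 1 := by rw [map_inv₀]; exact inv_le_one_of_one_le₀ hz
    have h3 := h1 z⁻¹ hinv
    rw [map_inv₀] at h3
    exact inv_injective h3

end Adjoin

theorem prod_exp {ι : Type*} (s : Finset ι) (a : ι → ℤ) :
    ∏ i ∈ s, exp (a i) = exp (∑ i ∈ s, a i) := by
  classical
  induction s using Finset.induction_on with
  | empty => simp
  | insert i s hi ih => rw [Finset.prod_insert hi, Finset.sum_insert hi, ih, exp_add]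

/-- Hilbert's different formula. -/
theorem hilbert_formula [FiniteDimensional K K']
    (hK : FunFld.IsFunctionField k K) (hg : FunFld.IsGeometric k K) [IsGalois K K']
    (F F' : Type w) [Field F] [Algebra k F] [Field F'] [Algebra k F']
    (P : FunFld.Place k K) (Q : FunFld.Place k K') (e : ℕ) (he : FunFld.IsOverWith Q P e)
    (φ : K →ₐ[k] LaurentSeries F) (hφ : LocRes.IsExpansionAt P.1 φ)
    (ψ : K' →ₐ[k] LaurentSeries F') (hψ : LocRes.IsExpansionAt Q.1 ψ)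
    (x : K) (hx : LocRes.vDiff φ 1 x ≠ 0) (hx' : LocRes.vDiff ψ 1 (algebraMap K K' x) ≠ 0) :
    (Function.support fun i : ℕ => (Nat.card {σ : K' ≃ₐ[K] K' //
        ∀ z : K', Q.1 z ≤ 1 → Q.1 (σ z - z) ≤ WithZero.exp (-(i : ℤ))} : ℤ) - 1).Finite ∧
    LocRes.diffExp φ ψ e x = ∑ᶠ i : ℕ, if 1 ≤ i then
      (Nat.card {σ : K' ≃ₐ[K] K' // ∀ z : K', Q.1 z ≤ 1 →
        Q.1 (σ z - z) ≤ WithZero.exp (-(i : ℤ))} : ℤ) - 1
      else 0 := by
  classical
  obtain ⟨hF, hF', hsF, hsF'⟩ := dual_val_aux hK hg F F' P Q e he φ hφ ψ hψ x hx hx'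
  haveI := hF
  haveI := hF'
  haveI := hsF
  haveI := hsF'
  obtain ⟨hfin, -⟩ := sum_ramIdx_mul_deg (K' := K') hK P
  set Qs := hfin.toFinset with hQsd
  have hQs : ∀ Q', Q' ∈ Qs ↔ IsOver Q' P := fun Q' => by
    rw [hQsd, Set.Finite.mem_toFinset]; rfl
  have hQ : Q ∈ Qs := (hQs Q).2 ⟨e, he⟩
  obtain ⟨y, μ, hyQ, hy', hμ, hlift0⟩ := exists_generator Qs Q hQ ψ hψ
  have hyint : y ∈ intAt Qs := by
    intro Q' hQ'
    by_cases hne : Q' = Q
    · rw [hne, hyQ]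
    · exact (hy' Q' hQ' hne).le
  have hyI : IsIntegral P.O y := isIntegral_of_mem_intAt hK P Qs hQs hyint
  have hintA : ∀ p ∈ Algebra.adjoin P.O ({y} : Set K'), ∀ Q' ∈ Qs, Q'.1 p ≤ 1 :=
    fun p hp Q' hQ' =>
      val_le_one_of_isIntegral P (adjoin_le_integralClosure hyI hp) Q' ((hQs Q').1 hQ')
  have hlift : ∀ c : K', Q.1 c ≤ 1 →
      ∃ u ∈ (Algebra.adjoin P.O ({y} : Set K')).toSubring, Q.1 (c - u) < 1 := fun c hc => by
    obtain ⟨q, hq⟩ := hlift0 c hc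
    exact ⟨aeval y q, aeval_mem_adjoin P y q, hq⟩
  have hπB : aeval y μ ∈ (Algebra.adjoin P.O ({y} : Set K')).toSubring := aeval_mem_adjoin P y μ
  have hyB : y ∈ (Algebra.adjoin P.O ({y} : Set K')).toSubring :=
    Algebra.self_mem_adjoin_singleton _ _
  have hintQ : ∀ p ∈ Algebra.adjoin P.O ({y} : Set K'), Q.1 p ≤ 1 :=
    fun p hp => hintA p hp Q hQ
  have hram : ∀ (σ : K' ≃ₐ[K] K') (i : ℕ), 1 ≤ i →
      ((∀ z : K', Q.1 z ≤ 1 → Q.1 (σ z - z) ≤ exp (-(i : ℤ))) ↔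
        Q.1 (σ y - y) ≤ exp (-(i : ℤ))) := fun σ i hi =>
    mem_ramGroup_iff P Qs hQs Q e he y hyQ hy' hintQ hlift (aeval y μ) hπB hμ σ i hi
  have hstab : ∀ σ : K' ≃ₐ[K] K', σ y = y → σ = 1 := fun σ hσ =>
    eq_one_of_fix_gen P Qs hQs Q e he y hyQ hy' hintQ hlift (aeval y μ) hπB hμ σ hσ
  have htop := adjoin_eq_top_of_stabilizer y hstab
  -- the different exponent is the order of `f'(y)`
  set δ : K' := aeval y (derivative (minpoly K y)) with hδ
  have hδ0 : δ ≠ 0 :=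
    (Algebra.IsSeparable.isSeparable K y).aeval_derivative_ne_zero (minpoly.aeval K y)
  obtain ⟨hle, -⟩ := different_le_derivative hK hg F F' P Q e he φ hφ ψ hψ x hx hx' y htop hyI
  have hbound := val_le_of_trace_le hK hg F F' P Q e he φ hφ ψ hψ x hx hx' Qs hQs
    (Algebra.adjoin P.O ({y} : Set K') : Set K')
    (fun t ht m M hM => exists_subring_approx_small Qs Q
      (Algebra.adjoin P.O ({y} : Set K')).toSubring hlift (aeval y μ) hπB hμ y hyB hyQ hy'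
      (fun p hp Q' hQ' => hintA p hp Q' hQ') t ht m M hM)
    δ⁻¹ (fun z hz => trace_div_derivative_le_one P y htop hyI z hz)
  rw [map_inv₀] at hbound
  have hv0 : Q.1 δ ≠ 0 := (Q.1.ne_zero_iff).2 hδ0
  rw [← exp_neg_log_eq_inv hv0, exp_le_exp] at hbound
  have hord : Q.ord δ = LocRes.diffExp φ ψ e x := le_antisymm hbound hle
  have hprod : δ = ∏ σ ∈ (Finset.univ.erase (1 : K' ≃ₐ[K] K')), (y - σ y) := by
    rw [hδ]
    convert derivative_eq_prod y hstab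
  -- the orders `m σ`
  set m : (K' ≃ₐ[K] K') → ℕ := fun σ => (-log (Q.1 (σ y - y))).toNat with hm
  have hmv : ∀ σ : K' ≃ₐ[K] K', σ ≠ 1 → Q.1 (σ y - y) = exp (-(m σ : ℤ)) := by
    intro σ hσ
    have hne : σ y - y ≠ 0 := fun h0 => hσ (hstab σ (sub_eq_zero.1 h0))
    have hv : Q.1 (σ y - y) ≠ 0 := (Q.1.ne_zero_iff).2 hne
    have hσQs : comapGal Q σ ∈ Qs := (hQs _).2 ⟨e, comapGal_isOverWith he σ⟩
    have h1 : Q.1 (σ y) ≤ 1 := hyint _ hσQs
    have h2 : Q.1 (σ y - y) ≤ 1 := le_trans (Q.1.map_sub _ _) (max_le h1 hyQ.le)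
    have h3 : log (Q.1 (σ y - y)) ≤ 0 := by
      rw [log_le_iff_le_exp hv, exp_zero]
      exact h2
    have h4 : ((m σ : ℕ) : ℤ) = -log (Q.1 (σ y - y)) := by
      rw [hm]
      exact Int.toNat_of_nonneg (by omega)
    rw [h4, neg_neg, exp_log hv]
  have hsum : LocRes.diffExp φ ψ e x = ∑ σ ∈ Finset.univ.erase (1 : K' ≃ₐ[K] K'), (m σ : ℤ) := by
    rw [← hord]
    show -log (Q.1 δ) = _
    rw [hprod, map_prod]
    have h5 : ∏ σ ∈ Finset.univ.erase (1 : K' ≃ₐ[K] K'), Q.1 (y - σ y) =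
        ∏ σ ∈ Finset.univ.erase (1 : K' ≃ₐ[K] K'), exp (-(m σ : ℤ)) := by
      apply Finset.prod_congr rfl
      intro σ hσ
      rw [Valuation.map_sub_swap, hmv σ (Finset.ne_of_mem_erase hσ)]
    rw [h5, prod_exp, log_exp, Finset.sum_neg_distrib, neg_neg]
  rw [hsum]
  apply count_formula (1 : K' ≃ₐ[K] K') m
    (fun i σ => ∀ z : K', Q.1 z ≤ 1 → Q.1 (σ z - z) ≤ WithZero.exp (-(i : ℤ)))
  · intro i z _
    rw [AlgEquiv.one_apply, sub_self, map_zero]
    exact zero_le'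
  · intro i hi σ hσ
    rw [hram σ i hi, hmv σ hσ, exp_le_exp]
    omega

end Groth.Agent.H27.Hilb
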